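import Cfsg.Agent.Lib.CharDeep.SmallDegrees.Gram
import Cfsg.Agent.Lib.DegreeTools.Eigen
import Cfsg.Agent.Lib.DegreeTools.LinearChars
import Cfsg.Agent.Lib.Char.Linear

/-!
# No simple group with all degrees below `p` has a self-centralizing subgroup of order `p`
-/

set_option autoImplicit false

open scoped ComplexConjugate
open Finset

namespace CfsgLib.CharDeep.SmallDegrees

open CfsgLib.Char CfsgLib.DegreeTools

variable {G : Type*} [Group G] {p : ℕ} [hp : Fact p.Prime] (x : G) (hx : orderOf x = p)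

/-- `x` raised to a residue modulo `p`. -/
def xp (a : ZMod p) : G := x ^ a.val

include hx in
theorem xp_natCast (n : ℕ) : xp x (n : ZMod p) = x ^ n := by
  rw [xp, ZMod.val_natCast, ← hx, pow_mod_orderOf]

include hx in
theorem xp_add (a b : ZMod p) : xp x (a + b) = xp x a * xp x b := by
  rw [xp, xp, xp, ← pow_add, ← xp_natCast x hx (a.val + b.val), Nat.cast_add,
    ZMod.natCast_zmod_val, ZMod.natCast_zmod_val, xp]

include hx in
theorem xp_mul (a b : ZMod p) : xp x (a * b) = xp x a ^ b.val := by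
  rw [xp, xp, ← pow_mul, ← xp_natCast x hx (a.val * b.val), Nat.cast_mul,
    ZMod.natCast_zmod_val, ZMod.natCast_zmod_val, xp]

theorem xp_zero : xp x (0 : ZMod p) = 1 := by rw [xp, ZMod.val_zero, pow_zero]

include hx in
theorem xp_one : xp x (1 : ZMod p) = x := by
  have := xp_natCast x hx 1
  rwa [Nat.cast_one, pow_one] at this

include hx in
theorem xp_ne_one {a : ZMod p} (ha : a ≠ 0) : xp x a ≠ 1 := by
  intro h
  have h1 := xp_mul x hx a a⁻¹
  rw [mul_inv_cancel₀ ha, xp_one x hx, h, one_pow] at h1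
  rw [h1, orderOf_one] at hx
  exact hp.out.one_lt.ne hx

/-- The residues `u` with `x` conjugate to `x ^ u`. -/
def fusion : Subgroup (ZMod p)ˣ where
  carrier := {u | IsConj x (xp x (u : ZMod p))}
  one_mem' := by
    show IsConj x (xp x ((1 : (ZMod p)ˣ) : ZMod p))
    rw [Units.val_one, xp_one x hx]
  mul_mem' := by
    intro u v hu hv
    obtain ⟨c, hc⟩ := isConj_iff.1 hu
    show IsConj x (xp x ((u * v : (ZMod p)ˣ) : ZMod p))
    refine IsConj.trans hv (isConj_iff.2 ⟨c, ?_⟩)
    rw [Units.val_mul, xp_mul x hx, show xp x (v : ZMod p) = x ^ (v : ZMod p).val from rfl,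
      ← hc, conj_pow]
  inv_mem' := by
    intro u hu
    obtain ⟨c, hc⟩ := isConj_iff.1 hu
    have h1 : c * xp x ((u⁻¹ : (ZMod p)ˣ) : ZMod p) * c⁻¹ = x := by
      rw [xp, ← conj_pow, hc, ← xp_mul x hx, ← Units.val_mul, mul_inv_cancel, Units.val_one,
        xp_one x hx]
    exact IsConj.symm (isConj_iff.2 ⟨c, h1⟩)

include hx in
theorem isConj_xp_iff {a b : ZMod p} (hb : b ≠ 0) (ha : a ≠ 0) :
    IsConj (xp x a) (xp x b) ↔ ∃ u ∈ fusion x hx, a = (u : ZMod p) * b := by
  constructor
  · intro h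
    obtain ⟨c, hc⟩ := isConj_iff.1 h.symm
    refine ⟨Units.mk0 (a * b⁻¹) (mul_ne_zero ha (inv_ne_zero hb)), ?_, ?_⟩
    · show IsConj x (xp x (a * b⁻¹))
      refine isConj_iff.2 ⟨c, ?_⟩
      rw [xp_mul x hx, ← hc, conj_pow, ← xp_mul x hx, mul_inv_cancel₀ hb, xp_one x hx]
    · rw [Units.val_mk0, inv_mul_cancel_right₀ hb]
  · rintro ⟨u, hu, rfl⟩
    obtain ⟨c, hc⟩ := isConj_iff.1 hu
    refine IsConj.symm (isConj_iff.2 ⟨c, ?_⟩)
    rw [xp_mul x hx, show xp x b = x ^ b.val from rfl, ← conj_pow, hc]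

theorem sum_stdAddChar_mul (c : ZMod p) :
    ∑ a : ZMod p, ZMod.stdAddChar (N := p) (a * c) = if c = 0 then (p : ℂ) else 0 := by
  rw [AddChar.sum_mulShift c (ZMod.isPrimitive_stdAddChar p), ZMod.card]
  split_ifs <;> simp

theorem conj_stdAddChar (a : ZMod p) :
    conj (ZMod.stdAddChar (N := p) a) = ZMod.stdAddChar (N := p) (-a) := by
  rw [AddChar.map_neg_eq_conj]

include hx in
theorem exists_mult (χ : Cfsg.IrrCharacter G) : ∃ m : ZMod p → ℕ, ∀ a : ZMod p,
    (χ : G → ℂ) (xp x a) = ∑ j, (m j : ℂ) * ZMod.stdAddChar (N := p) (j * a) := by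
  obtain ⟨n, ρ, -, hρ⟩ := χ.2
  set ω := ZMod.stdAddChar (N := p) 1 with hω
  have hpow : ∀ k : ℕ, ω ^ k = ZMod.stdAddChar (N := p) (k : ZMod p) := fun k => by
    rw [hω, ← AddChar.map_nsmul_eq_pow, nsmul_one]
  have hprim : IsPrimitiveRoot ω p := by
    have h1 : orderOf ω = p := orderOf_eq_prime
      (by rw [hpow, ZMod.natCast_self, AddChar.map_zero_eq_one]) fun h => by
        rw [hω, ← AddChar.map_zero_eq_one (ZMod.stdAddChar (N := p))] at h
        exact one_ne_zero (ZMod.injective_stdAddChar h)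
    rw [← h1]
    exact IsPrimitiveRoot.orderOf ω
  refine ⟨fun j => Eigen.mult (ρ x) p (ω ^ j.val), fun a => ?_⟩
  rw [← hρ, xp, Eigen.char_pow_eq_sum ρ x hprim hp.out.ne_zero (by rw [← hx, pow_orderOf_eq_one]) a.val]
  refine Finset.sum_bij' (fun k _ => (k : ZMod p)) (fun j _ => j.val) (fun _ _ => mem_univ _)
    (fun j _ => mem_range.2 (ZMod.val_lt j)) (fun k hk => ZMod.val_natCast_of_lt (mem_range.1 hk))
    (fun j _ => ZMod.natCast_zmod_val j) fun k hk => ?_
  simp only [ZMod.val_natCast_of_lt (mem_range.1 hk)]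
  rw [hpow (k * a.val), Nat.cast_mul, ZMod.natCast_zmod_val]

include hx in
/-- **The final step.** A finite perfect group whose non-trivial irreducible characters are
faithful cannot have all its degrees below `p` and a self-centralizing element of order `p`. -/
theorem false_of_centralizer_card [Finite G] (hperf : commutator G = ⊤)
    (hfaith : ∀ χ : Cfsg.IrrCharacter G, χ ≠ oneChar G → (χ : G → ℂ) x ≠ (χ : G → ℂ) 1)
    (hdeg : ∀ χ : Cfsg.IrrCharacter G, Cfsg.charDegree (χ : G → ℂ) < p)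
    (hC : Nat.card (Subgroup.centralizer ({x} : Set G)) = p) : False := by
  classical
  cases nonempty_fintype G
  have hp0 : (p : ℂ) ≠ 0 := Nat.cast_ne_zero.2 hp.out.ne_zero
  choose M hM using fun χ : Cfsg.IrrCharacter G => exists_mult x hx χ
  set d : Cfsg.IrrCharacter G → ℕ := fun χ => Cfsg.charDegree (χ : G → ℂ) with hddef
  have hd : ∀ χ, ((d χ : ℕ) : ℂ) = ∑ j, (M χ j : ℂ) := fun χ => by
    rw [hddef]
    simp only
    rw [deg_cast, ← xp_zero (p := p) x, hM]
    simp
  have hdN : ∀ χ, d χ = ∑ j, M χ j := fun χ => by exact_mod_cast hd χ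
  have hinv : ∀ χ i, (p : ℂ) * M χ i = ∑ a, (χ : G → ℂ) (xp x a) * ZMod.stdAddChar (N := p) (-(i * a)) := by
    intro χ i
    simp only [hM, sum_mul, mul_assoc, ← AddChar.map_add_eq_mul]
    rw [sum_comm, sum_eq_single i]
    · simp [mul_comm]
    · intro j _ hj
      rw [← mul_sum]
      simp only [show ∀ a, j * a + -(i * a) = a * (j - i) from fun a => by ring]
      rw [sum_stdAddChar_mul, if_neg (sub_ne_zero.2 hj), mul_zero]
    · exact fun h => absurd (mem_univ i) h
  set f : ZMod p → ZMod p → ZMod p → ℂ := fun i k a => ZMod.stdAddChar (N := p) (-(i * a)) - ZMod.stdAddChar (N := p) (-(k * a)) with hf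
  have hdiff : ∀ χ i k, (p : ℂ) * ((M χ i : ℂ) - M χ k) =
      ∑ a, (χ : G → ℂ) (xp x a) * f i k a := fun χ i k => by
    simp only [hf, mul_sub, sum_sub_distrib, hinv]
  have hlin : ∀ i k, ∑ χ, (d χ : ℂ) * ((M χ i : ℂ) - M χ k) = 0 := by
    intro i k
    refine mul_left_cancel₀ hp0 ?_
    rw [mul_zero, mul_sum]
    simp only [mul_left_comm (p : ℂ), hdiff, mul_sum]
    rw [sum_comm]
    refine Finset.sum_eq_zero fun a _ => ?_
    rcases eq_or_ne a 0 with rfl | ha
    · simp [hf]
    · simp only [← mul_assoc, ← sum_mul]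
      rw [show ∑ χ : Cfsg.IrrCharacter G, (d χ : ℂ) * (χ : G → ℂ) (xp x a) = 0 from
        sum_deg_mul _ (xp_ne_one x hx ha), zero_mul]
  set U := fusion x hx with hU
  have hcen : ∀ a : ZMod p, a ≠ 0 →
      Nat.card (Subgroup.centralizer ({xp x a} : Set G)) = p := by
    intro a ha
    have heq : Subgroup.centralizer ({xp x a} : Set G) = Subgroup.centralizer {x} := by
      refine le_antisymm (fun g hg => ?_) fun g hg => ?_ <;>
        rw [Subgroup.mem_centralizer_singleton_iff] at hg ⊢
      · have h1 := xp_mul x hx a a⁻¹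
        rw [mul_inv_cancel₀ ha, xp_one x hx] at h1
        rw [h1]
        exact (Commute.pow_right hg _).eq
      · exact (Commute.pow_right hg _).eq
    rw [heq, hC]
  have hcol : ∀ a b : ZMod p, a ≠ 0 → b ≠ 0 →
      ∑ χ : Cfsg.IrrCharacter G, (χ : G → ℂ) (xp x a) * conj ((χ : G → ℂ) (xp x b)) =
        ∑ u : U, if a = ((u : (ZMod p)ˣ) : ZMod p) * b then (p : ℂ) else 0 := by
    intro a b ha hb
    rw [sum_irr_mul_conj, hcen b hb]
    by_cases h : IsConj (xp x a) (xp x b)
    · obtain ⟨u, hu, hau⟩ := (isConj_xp_iff x hx hb ha).1 h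
      rw [if_pos h, sum_eq_single (⟨u, hu⟩ : U), if_pos hau]
      · intro v _ hv
        rw [if_neg]
        intro hav
        exact hv (Subtype.ext (Units.ext (mul_right_cancel₀ hb (hav.symm.trans hau))))
      · exact fun h => absurd (mem_univ _) h
    · rw [if_neg h, Finset.sum_eq_zero fun (u : U) _ => if_neg fun hau => h
        ((isConj_xp_iff x hx hb ha).2 ⟨(u : (ZMod p)ˣ), u.2, hau⟩)]
  have hgram : ∀ i k l q, ∑ χ : Cfsg.IrrCharacter G,
      ((M χ i : ℤ) - M χ k) * ((M χ l : ℤ) - M χ q) =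
      ∑ u : U, ((if l = i * ((u : (ZMod p)ˣ) : ZMod p) then (1 : ℤ) else 0) -
        (if q = i * ((u : (ZMod p)ˣ) : ZMod p) then 1 else 0) -
        (if l = k * ((u : (ZMod p)ˣ) : ZMod p) then 1 else 0) +
        (if q = k * ((u : (ZMod p)ˣ) : ZMod p) then 1 else 0)) := by
    intro i k l q
    apply (Int.cast_injective (α := ℂ))
    push_cast
    refine mul_left_cancel₀ (mul_ne_zero hp0 hp0) ?_
    calc (p : ℂ) * p * ∑ χ : Cfsg.IrrCharacter G, ((M χ i : ℂ) - M χ k) * ((M χ l : ℂ) - M χ q)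
        = ∑ χ : Cfsg.IrrCharacter G, ((p : ℂ) * ((M χ i : ℂ) - M χ k)) *
            conj ((p : ℂ) * ((M χ l : ℂ) - M χ q)) := by
          rw [mul_sum]
          refine sum_congr rfl fun χ _ => ?_
          simp only [map_mul, map_sub, Complex.conj_natCast]
          ring
      _ = ∑ a, ∑ b, f i k a * conj (f l q b) *
            ∑ χ : Cfsg.IrrCharacter G, (χ : G → ℂ) (xp x a) * conj ((χ : G → ℂ) (xp x b)) := by
          simp only [hdiff, map_sum, map_mul, sum_mul_sum]
          rw [sum_comm]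
          refine sum_congr rfl fun a _ => ?_
          rw [sum_comm]
          refine sum_congr rfl fun b _ => ?_
          rw [mul_sum]
          exact sum_congr rfl fun χ _ => by ring
      _ = ∑ a, ∑ b, f i k a * conj (f l q b) *
            ∑ u : U, if a = ((u : (ZMod p)ˣ) : ZMod p) * b then (p : ℂ) else 0 := by
          refine sum_congr rfl fun a _ => sum_congr rfl fun b _ => ?_
          rcases eq_or_ne a 0 with rfl | ha
          · simp [hf]
          rcases eq_or_ne b 0 with rfl | hb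
          · simp [hf]
          rw [hcol a b ha hb]
      _ = ∑ u : U, (p : ℂ) * ∑ b, f i k (((u : (ZMod p)ˣ) : ZMod p) * b) * conj (f l q b) := by
          simp only [mul_sum]
          rw [sum_comm]
          rw [sum_congr rfl fun b _ => sum_comm, sum_comm]
          refine sum_congr rfl fun u _ => sum_congr rfl fun b _ => ?_
          rw [sum_eq_single (((u : (ZMod p)ˣ) : ZMod p) * b) (fun a _ ha => by
            rw [if_neg ha, mul_zero]) fun h => absurd (mem_univ _) h, if_pos rfl]
          ring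
      _ = _ := by
          rw [mul_sum]
          refine sum_congr rfl fun u _ => ?_
          rw [mul_assoc]
          congr 1
          simp only [hf, map_sub, conj_stdAddChar, neg_neg, sub_mul, mul_sub,
            ← AddChar.map_add_eq_mul, sum_sub_distrib]
          simp only [show ∀ i l u b : ZMod p, -(i * (u * b)) + l * b = b * (l - i * u) from
            fun i l u b => by ring, sum_stdAddChar_mul, sub_eq_zero]
          split_ifs <;> ring
  -- the orbits
  set O := (ZMod p)ˣ ⧸ U
  set r : O → ZMod p := fun o => ((o.out : (ZMod p)ˣ) : ZMod p) with hr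
  have hsingle : ∀ o o' : O,
      (∑ u : U, if r o' = r o * ((u : (ZMod p)ˣ) : ZMod p) then (1 : ℤ) else 0) =
        if o = o' then 1 else 0 := by
    intro o o'
    split_ifs with h
    · subst h
      rw [sum_eq_single (1 : U) (fun u _ hu => if_neg fun h => hu ?_)
        fun h => absurd (mem_univ _) h]
      · simp
      · refine Subtype.ext (mul_left_cancel (a := o.out) ?_)
        rw [OneMemClass.coe_one, mul_one]
        exact Units.ext h.symm
    · refine Finset.sum_eq_zero fun u _ => if_neg fun hu => h ?_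
      rw [← QuotientGroup.out_eq' o, ← QuotientGroup.out_eq' o', QuotientGroup.eq]
      have h1 : (o.out)⁻¹ * o'.out = (u : (ZMod p)ˣ) := by
        rw [inv_mul_eq_iff_eq_mul]
        exact Units.ext hu
      rw [h1]
      exact u.2
  have hgramO : ∀ o o' o'' o''', ∑ χ : Cfsg.IrrCharacter G,
      ((M χ (r o) : ℤ) - M χ (r o')) * ((M χ (r o'') : ℤ) - M χ (r o''')) =
      (if o = o'' then 1 else 0) - (if o = o''' then 1 else 0) - (if o' = o'' then 1 else 0) +
        (if o' = o''' then 1 else 0) := fun o o' o'' o''' => by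
    rw [hgram, sum_add_distrib, sum_sub_distrib, sum_sub_distrib, hsingle, hsingle, hsingle, hsingle]
  have horb : ∀ χ (j : (ZMod p)ˣ), M χ (j : ZMod p) = M χ (r (QuotientGroup.mk j)) := by
    intro χ j
    set o : O := QuotientGroup.mk j
    obtain ⟨u, hu⟩ := QuotientGroup.mk_out_eq_mul U j
    have hrj : r o = (j : ZMod p) * ((u : (ZMod p)ˣ) : ZMod p) := by
      rw [hr]
      exact congrArg Units.val hu
    have h0 : ∀ a b : ZMod p, ∀ v : U, b = a * ((v : (ZMod p)ˣ) : ZMod p) →
        (∑ w : U, if b = a * ((w : (ZMod p)ˣ) : ZMod p) then (1 : ℤ) else 0) ≥ 1 := by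
      intro a b v hv
      refine le_trans (le_of_eq (if_pos hv).symm) (single_le_sum (f := fun w : U =>
        if b = a * ((w : (ZMod p)ˣ) : ZMod p) then (1 : ℤ) else 0) (fun w _ => ?_) (mem_univ v))
      split_ifs <;> norm_num
    have h1 : ∀ a b : ZMod p, a ≠ 0 →
        (∑ w : U, if b = a * ((w : (ZMod p)ˣ) : ZMod p) then (1 : ℤ) else 0) ≤ 1 := by
      intro a b ha
      rw [sum_boole]
      norm_cast
      refine card_le_one.2 fun v hv w hw => ?_
      simp only [mem_filter, mem_univ, true_and] at hv hw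
      exact Subtype.ext (Units.ext (mul_left_cancel₀ ha (hv.symm.trans hw)))
    have hs : ∑ χ : Cfsg.IrrCharacter G,
        ((M χ (r o) : ℤ) - M χ j) * ((M χ (r o) : ℤ) - M χ j) ≤ 0 := by
      rw [hgram, sum_add_distrib, sum_sub_distrib, sum_sub_distrib]
      have hr0 : r o ≠ 0 := Units.ne_zero _
      have a1 := h1 (r o) (r o) hr0
      have a2 := h1 (j : ZMod p) (j : ZMod p) (Units.ne_zero j)
      have a3 := h0 (r o) (j : ZMod p) u⁻¹ (by
        rw [hrj, mul_assoc, ← Units.val_mul, InvMemClass.coe_inv, mul_inv_cancel, Units.val_one,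
          mul_one])
      have a4 := h0 (j : ZMod p) (r o) u hrj
      linarith
    have := (sum_eq_zero_iff_of_nonneg fun ψ _ => mul_self_nonneg _).1
      (le_antisymm hs (sum_nonneg fun ψ _ => mul_self_nonneg _)) χ (mem_univ χ)
    rw [mul_self_eq_zero, sub_eq_zero] at this
    exact_mod_cast this.symm
  -- degrees one
  have hd1 : ∀ χ, χ ≠ oneChar G → 2 ≤ d χ := by
    intro χ hχ
    by_contra h
    have h1 : d χ = 1 := by have := deg_pos χ; simp only [hddef] at h ⊢; omega
    exact hfaith χ hχ (by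
      have h1' : (χ : G → ℂ) 1 = 1 := by rw [← deg_cast]; simp only [hddef] at h1; rw [h1, Nat.cast_one]
      rw [linear_apply_commutator χ h1' (hperf ▸ Subgroup.mem_top x), h1'])
  set Cst := (univ.erase (oneChar G)).filter fun χ => ∀ o o' : O, M χ (r o) = M χ (r o') with hCst
  set s := (univ.erase (oneChar G)).filter fun χ => ¬ ∀ o o' : O, M χ (r o) = M χ (r o') with hs
  have hsplit : ∀ {R : Type} [AddCommMonoid R] (F : Cfsg.IrrCharacter G → R),
      ∑ χ, F χ = F (oneChar G) + (∑ χ ∈ Cst, F χ + ∑ χ ∈ s, F χ) := by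
    intro R _ F
    rw [hCst, hs, sum_filter_add_sum_filter_not, add_sum_erase _ _ (mem_univ _)]
  obtain ⟨o₀⟩ : Nonempty O := ⟨QuotientGroup.mk 1⟩
  -- constant characters
  have hconst : ∀ χ ∈ Cst, d χ = p - 1 ∧ M χ 0 = 0 ∧ ∀ o, M χ (r o) = 1 := by
    intro χ hχ
    rw [hCst, mem_filter, mem_erase] at hχ
    obtain ⟨⟨hne, -⟩, hc⟩ := hχ
    have hall : ∀ j ∈ univ.erase (0 : ZMod p), M χ j = M χ (r o₀) := fun j hj => by
      have := horb χ (Units.mk0 j (ne_of_mem_erase hj))
      rw [Units.val_mk0] at this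
      rw [this, hc]
    have hsum : d χ = M χ 0 + (p - 1) * M χ (r o₀) := by
      rw [hdN, ← add_sum_erase _ _ (mem_univ (0 : ZMod p)), sum_congr rfl hall, sum_const,
        card_erase_of_mem (mem_univ _), card_univ, ZMod.card, smul_eq_mul]
    have hlt : d χ < p := hdeg χ
    have hc0 : M χ (r o₀) ≠ 0 := by
      intro h0
      refine hfaith χ hne ?_
      have hz : ∀ j : ZMod p, j ≠ 0 → M χ j = 0 := fun j hj => by
        rw [hall j (mem_erase.2 ⟨hj, mem_univ _⟩), h0]
      rw [← xp_one (p := p) x hx, ← xp_zero (p := p) x, hM, hM]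
      exact sum_congr rfl fun j _ => by
        rcases eq_or_ne j 0 with rfl | hj
        · simp
        · simp [hz j hj]
    have hc1 : M χ (r o₀) = 1 := by
      by_contra h1
      have : 2 ≤ M χ (r o₀) := by omega
      have h3 : (p - 1) * 2 ≤ (p - 1) * M χ (r o₀) := Nat.mul_le_mul_left _ this
      have := hp.out.two_le
      omega
    refine ⟨?_, ?_, fun o => (hc o o₀).trans hc1⟩ <;> rw [hc1] at hsum <;> omega
  have hone : M (oneChar G) 0 = 1 ∧ ∀ j : ZMod p, j ≠ 0 → M (oneChar G) j = 0 := by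
    have h1 : ∀ i : ZMod p, (M (oneChar G) i : ℂ) = if i = 0 then 1 else 0 := fun i => by
      refine mul_left_cancel₀ hp0 ?_
      rw [hinv]
      simp only [coe_oneChar, one_mul, show ∀ a : ZMod p, -(i * a) = a * -i from
        fun a => by ring, sum_stdAddChar_mul, neg_eq_zero]
      split_ifs <;> simp
    exact ⟨by exact_mod_cast (h1 0).trans (if_pos rfl),
      fun j hj => by exact_mod_cast (h1 j).trans (if_neg hj)⟩
  have hlinZ : ∀ i k, ∑ χ, (d χ : ℤ) * ((M χ i : ℤ) - M χ k) = 0 := fun i k => by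
    exact_mod_cast hlin i k
  have hrel := hlinZ 0 (r o₀)
  rw [hsplit, hone.1, hone.2 _ (Units.ne_zero _),
    show d (oneChar G) = 1 from deg_oneChar,
    sum_congr rfl fun χ hχ => by
      obtain ⟨a, b, c⟩ := hconst χ hχ
      rw [a, b, c o₀], sum_const, nsmul_eq_mul] at hrel
  have hp2 : 2 ≤ p := hp.out.two_le
  have hpne2 : p ≠ 2 := by
    intro h2
    obtain ⟨χ, hχ⟩ : ∃ χ : Cfsg.IrrCharacter G, χ ≠ oneChar G := by
      by_contra h
      push Not at h
      have hx1 : x = 1 := eq_one_of_forall_irr fun χ => by rw [h χ]; simp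
      rw [hx1, orderOf_one] at hx
      omega
    have := hd1 χ hχ
    have := hdeg χ
    simp only [hddef] at *
    omega
  by_cases ht : 2 ≤ Fintype.card O
  · have hsO : ∀ o o' : O, ∀ χ ∈ Cst, M χ (r o) = M χ (r o') := fun o o' χ hχ => by
      rw [(hconst χ hχ).2.2, (hconst χ hχ).2.2]
    obtain ⟨hcard, heq⟩ := card_eq_and_weight_eq s (fun χ o => (M χ (r o) : ℤ))
      (fun χ => (d χ : ℤ)) (fun χ _ => by exact_mod_cast deg_pos χ)
      (fun χ hχ => by
        rw [hs, mem_filter] at hχ
        push Not at hχ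
        obtain ⟨-, i, k, hik⟩ := hχ
        exact ⟨i, k, fun h => hik (by exact_mod_cast h)⟩)
      (fun o o' o'' o''' => by
        have := hgramO o o' o'' o'''
        rw [hsplit, hone.2 _ (Units.ne_zero _), hone.2 _ (Units.ne_zero _),
          Finset.sum_eq_zero fun χ hχ => by rw [hsO o o' χ hχ, sub_self, zero_mul]] at this
        simpa using this)
      (fun o o' => by
        have := hlinZ (r o) (r o')
        rw [hsplit, hone.2 _ (Units.ne_zero _), hone.2 _ (Units.ne_zero _),
          Finset.sum_eq_zero fun χ hχ => by rw [hsO o o' χ hχ, sub_self, mul_zero]] at this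
        simpa using this) ht
    obtain ⟨χ₁, hχ₁⟩ : s.Nonempty := card_pos.1 (by omega)
    have hD : ∀ χ ∈ s, d χ = d χ₁ := fun χ hχ => by exact_mod_cast heq χ hχ χ₁ hχ₁
    have hD2 : 2 ≤ d χ₁ := hd1 χ₁ (mem_erase.1 (mem_filter.1 hχ₁).1).1
    rw [sum_congr rfl fun χ hχ => by rw [hD χ hχ], ← mul_sum] at hrel
    rcases Cst.eq_empty_or_nonempty with hk | ⟨χ₀, hχ₀⟩
    · rw [hk, card_empty] at hrel
      have hdvd : (d χ₁ : ℤ) ∣ 1 := ⟨-∑ χ ∈ s, ((M χ 0 : ℤ) - M χ (r o₀)), by
        push_cast at hrel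
        linarith⟩
      have := Int.eq_one_of_dvd_one (by positivity) hdvd
      omega
    · have hdvd : Fintype.card O ∣ p - 1 := by
        rw [← ZMod.card_units p, ← Nat.card_eq_fintype_card, ← Nat.card_eq_fintype_card]
        exact Subgroup.card_quotient_dvd_card U
      have hG : Fintype.card O ∣ Nat.card G := hdvd.trans (by
        rw [← (hconst χ₀ hχ₀).1]
        exact deg_dvd_card χ₀)
      rw [← sum_deg_sq, hsplit, sum_congr rfl fun χ hχ => congrArg (· ^ 2) (hD χ hχ),
        sum_congr rfl fun χ hχ => congrArg (· ^ 2) (hconst χ hχ).1, sum_const, sum_const, hcard,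
        show Cfsg.charDegree (oneChar G : G → ℂ) = 1 from deg_oneChar, smul_eq_mul, smul_eq_mul,
        one_pow] at hG
      have h1 : Fintype.card O ∣ 1 := by
        refine (Nat.dvd_add_left (dvd_add ?_ (dvd_mul_right _ _))).1 hG
        exact Dvd.dvd.mul_left (dvd_pow hdvd two_ne_zero) _
      have := Nat.eq_one_of_dvd_one h1
      omega
  · have hsub : Subsingleton O := Fintype.card_le_one_iff_subsingleton.1 (by omega)
    have hs0 : s = ∅ := by
      rw [hs, filter_eq_empty_iff]
      intro χ _ h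
      exact h fun o o' => by rw [Subsingleton.elim o o']
    rw [hs0, sum_empty] at hrel
    have hcast : ((p - 1 : ℕ) : ℤ) = (p : ℤ) - 1 := by omega
    rw [hcast] at hrel
    push_cast at hrel
    have hdvd : ((p : ℤ) - 1) ∣ 1 := ⟨(Cst.card : ℤ), by linarith⟩
    have := Int.eq_one_of_dvd_one (by omega) hdvd
    omega

end CfsgLib.CharDeep.SmallDegrees
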