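import Mathlib

/-!
# Integer vectors with the Gram matrix of the differences of a standard basis

Used for the exceptional characters of a self-centralizing subgroup of prime order: there are as
many of them as orbits, and they share their degree.
-/

set_option autoImplicit false

namespace CfsgLib.CharDeep.SmallDegrees

open Finset

variable {ι O : Type*} [Fintype O]

/-- A non-constant integer vector has centred norm at least `t - 1`. -/
theorem le_card_mul_sum_sq_sub {w : O → ℤ} (h : ∃ i k, w i ≠ w k) :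
    (Fintype.card O : ℤ) - 1 ≤ Fintype.card O * ∑ i, w i ^ 2 - (∑ i, w i) ^ 2 := by
  classical
  obtain ⟨i, k, hik⟩ := h
  obtain ⟨i₀, -, hi₀⟩ := Finset.exists_min_image univ w ⟨i, mem_univ i⟩
  set u : O → ℤ := fun j => w j - w i₀ with hu
  have hexp : (Fintype.card O : ℤ) * ∑ j, w j ^ 2 - (∑ j, w j) ^ 2 =
      Fintype.card O * ∑ j, u j ^ 2 - (∑ j, u j) ^ 2 := by
    have h1 : ∑ j, w j = ∑ j, u j + Fintype.card O * w i₀ := by
      simp [hu, sum_sub_distrib]
    have h2 : ∑ j, w j ^ 2 =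
        ∑ j, u j ^ 2 + 2 * w i₀ * ∑ j, u j + Fintype.card O * w i₀ ^ 2 := by
      simp only [hu, sub_sq, sum_add_distrib, sum_sub_distrib, sum_const, card_univ, nsmul_eq_mul,
        ← Finset.sum_mul, ← Finset.mul_sum]
      ring
    rw [h1, h2]
    ring
  rw [hexp]
  set S := univ.filter fun j => u j ≠ 0 with hS
  have hs0 : (1 : ℤ) ≤ S.card := by
    have : S.Nonempty := by
      by_contra hne
      rw [not_nonempty_iff_eq_empty, hS, filter_eq_empty_iff] at hne
      have a := hne (mem_univ i)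
      have b := hne (mem_univ k)
      simp only [hu, sub_ne_zero, not_not] at a b
      exact hik (a.trans b.symm)
    exact_mod_cast this.card_pos
  have hs1 : (S.card : ℤ) ≤ Fintype.card O - 1 := by
    have : S.card < Fintype.card O :=
      card_lt_iff_ne_univ _ |>.2 fun hall => by
        have := hall ▸ mem_univ i₀
        simp [hS, hu] at this
    omega
  have hcs : (∑ j, u j) ^ 2 ≤ S.card * ∑ j, u j ^ 2 := by
    calc (∑ j, u j) ^ 2 = (∑ j ∈ S, u j) ^ 2 := by
          rw [hS, sum_filter_ne_zero]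
      _ ≤ S.card * ∑ j ∈ S, u j ^ 2 := sq_sum_le_card_mul_sum_sq
      _ ≤ S.card * ∑ j, u j ^ 2 := by
          refine mul_le_mul_of_nonneg_left ?_ (by positivity)
          exact sum_le_sum_of_subset_of_nonneg (subset_univ _) fun j _ _ => sq_nonneg _
  have hsq : (S.card : ℤ) ≤ ∑ j, u j ^ 2 := by
    calc (S.card : ℤ) = ∑ _j ∈ S, 1 := by simp
      _ ≤ ∑ j ∈ S, u j ^ 2 := sum_le_sum fun j hj => by
          have : u j ≠ 0 := (mem_filter.1 hj).2
          nlinarith [Int.one_le_abs this, sq_abs (u j)]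
      _ ≤ _ := sum_le_sum_of_subset_of_nonneg (subset_univ _) fun j _ _ => sq_nonneg _
  nlinarith

/-- The number of vectors is the number of coordinates and all weights agree. -/
theorem card_eq_and_weight_eq [DecidableEq O] [DecidableEq ι] (s : Finset ι) (m : ι → O → ℤ)
    (d : ι → ℤ) (hpos : ∀ χ ∈ s, 0 < d χ) (hnc : ∀ χ ∈ s, ∃ i k, m χ i ≠ m χ k)
    (hg : ∀ i k l q, ∑ χ ∈ s, (m χ i - m χ k) * (m χ l - m χ q) =
      (if i = l then 1 else 0) - (if i = q then 1 else 0) - (if k = l then 1 else 0) +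
        (if k = q then 1 else 0))
    (hd : ∀ i k, ∑ χ ∈ s, d χ * (m χ i - m χ k) = 0) (ht : 2 ≤ Fintype.card O) :
    s.card = Fintype.card O ∧ ∀ χ ∈ s, ∀ φ ∈ s, d χ = d φ := by
  set t : ℤ := (Fintype.card O : ℤ) with htdef
  have ht2 : 2 ≤ t := by omega
  set b : ι → O → ℤ := fun χ i => ∑ k, (m χ i - m χ k) with hb
  have hb' : ∀ χ i, b χ i = t * m χ i - ∑ k, m χ k := fun χ i => by
    simp [hb, sum_sub_distrib, htdef]
  have hb0 : ∀ χ, ∑ i, b χ i = 0 := fun χ => by
    simp only [hb', sum_sub_distrib, ← mul_sum, sum_const, card_univ, nsmul_eq_mul, htdef, sub_self]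
  have hG : ∀ i l, ∑ χ ∈ s, b χ i * b χ l = t * t * (if i = l then 1 else 0) - t := by
    intro i l
    calc ∑ χ ∈ s, b χ i * b χ l
        = ∑ k, ∑ q, ∑ χ ∈ s, (m χ i - m χ k) * (m χ l - m χ q) := by
          simp only [hb, sum_mul_sum]
          rw [sum_comm]
          exact sum_congr rfl fun k _ => sum_comm
      _ = _ := by
          simp only [hg, sum_add_distrib, sum_sub_distrib, sum_const, card_univ, nsmul_eq_mul,
            sum_ite_eq, sum_ite_eq', mem_univ, if_true, ← mul_sum, htdef]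
          ring
  set P : ι → ι → ℤ := fun χ ψ => ∑ i, b χ i * b ψ i with hP
  have hidem : ∀ χ, ∑ ψ ∈ s, P χ ψ ^ 2 = t * t * P χ χ := by
    intro χ
    calc ∑ ψ ∈ s, P χ ψ ^ 2 = ∑ i, ∑ l, b χ i * b χ l * ∑ ψ ∈ s, b ψ i * b ψ l := by
          simp only [hP, sq]
          rw [sum_congr rfl fun ψ _ => sum_mul_sum _ _ _ _, sum_comm]
          refine sum_congr rfl fun i _ => ?_
          rw [sum_comm]
          refine sum_congr rfl fun l _ => ?_
          rw [mul_sum]
          exact sum_congr rfl fun ψ _ => by ring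
      _ = ∑ i, ∑ l, (t * t * (if i = l then b χ i * b χ l else 0) - t * (b χ i * b χ l)) := by
          refine sum_congr rfl fun i _ => sum_congr rfl fun l _ => ?_
          rw [hG]
          split_ifs <;> ring
      _ = t * t * P χ χ := by
          simp only [sum_sub_distrib, ← mul_sum, sum_ite_eq, mem_univ, if_true, ← sum_mul, hb0,
            zero_mul, mul_zero, sum_const_zero, sub_zero, hP]
  have htr : ∑ χ ∈ s, P χ χ = t * (t * t - t) := by
    calc ∑ χ ∈ s, P χ χ = ∑ i, ∑ χ ∈ s, b χ i * b χ i := sum_comm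
      _ = _ := by
          simp [hG, htdef]
          ring
  have hlow : ∀ χ ∈ s, t * (t - 1) ≤ P χ χ := by
    intro χ hχ
    have h1 := le_card_mul_sum_sq_sub (hnc χ hχ)
    rw [← htdef] at h1
    have h2 : P χ χ = t * (t * ∑ i, m χ i ^ 2 - (∑ i, m χ i) ^ 2) := by
      simp only [hP, hb', ← sq, sub_sq, sum_add_distrib, sum_sub_distrib, sum_const, card_univ,
        nsmul_eq_mul, mul_pow, ← mul_sum, ← sum_mul, ← htdef]
      ring
    rw [h2]
    exact mul_le_mul_of_nonneg_left h1 (by omega)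
  have hhigh : ∀ χ ∈ s, P χ χ ≤ t * t := by
    intro χ hχ
    have h1 : P χ χ ^ 2 ≤ t * t * P χ χ :=
      (hidem χ) ▸ single_le_sum (f := fun ψ => P χ ψ ^ 2) (fun ψ _ => sq_nonneg _) hχ
    have h2 := hlow χ hχ
    nlinarith
  have hdP : ∀ χ, ∑ ψ ∈ s, d ψ * P χ ψ = 0 := by
    intro χ
    simp only [hP, mul_sum]
    rw [sum_comm]
    refine sum_eq_zero fun i _ => ?_
    calc ∑ ψ ∈ s, d ψ * (b χ i * b ψ i) = b χ i * ∑ k, ∑ ψ ∈ s, d ψ * (m ψ i - m ψ k) := by
          simp only [hb, mul_sum]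
          rw [sum_comm]
          exact sum_congr rfl fun k _ => sum_congr rfl fun ψ _ => by ring
      _ = 0 := by simp [hd]
  have hnle : (s.card : ℤ) ≤ t := by
    have h1 : ∑ _χ ∈ s, t * (t - 1) ≤ ∑ χ ∈ s, P χ χ := sum_le_sum hlow
    rw [sum_const, nsmul_eq_mul, htr] at h1
    have : 0 < t * (t - 1) := by nlinarith
    nlinarith
  have hne : s.Nonempty := by
    by_contra h
    rw [not_nonempty_iff_eq_empty] at h
    rw [h, sum_empty] at htr
    nlinarith
  have hneq : (s.card : ℤ) = t := by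
    by_contra hne'
    have hall : ∀ χ ∈ s, P χ χ = t * t := by
      have h1 : ∑ χ ∈ s, (t * t - P χ χ) ≤ 0 := by
        rw [sum_sub_distrib, sum_const, nsmul_eq_mul, htr]
        have : (s.card : ℤ) ≤ t - 1 := by omega
        nlinarith
      intro χ hχ
      have := (sum_eq_zero_iff_of_nonneg fun ψ hψ => sub_nonneg.2 (hhigh ψ hψ)).1
        (le_antisymm h1 (sum_nonneg fun ψ hψ => sub_nonneg.2 (hhigh ψ hψ))) χ hχ
      omega
    obtain ⟨χ, hχ⟩ := hne
    have h2 := hidem χ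
    rw [← add_sum_erase _ _ hχ, hall χ hχ] at h2
    have h3 : ∑ ψ ∈ s.erase χ, P χ ψ ^ 2 = 0 := by linarith
    have h4 := hdP χ
    rw [← add_sum_erase _ _ hχ, hall χ hχ, sum_eq_zero fun ψ hψ => by
      rw [sq_eq_zero_iff.1 ((sum_eq_zero_iff_of_nonneg fun ψ _ => sq_nonneg _).1 h3 ψ hψ),
        mul_zero], add_zero] at h4
    have := hpos χ hχ
    have : 0 < d χ * (t * t) := by positivity
    omega
  have hdiag : ∀ χ ∈ s, P χ χ = t * (t - 1) := by
    intro χ hχ
    have h1 : ∑ χ ∈ s, (P χ χ - t * (t - 1)) = 0 := by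
      rw [sum_sub_distrib, htr, sum_const, nsmul_eq_mul, hneq]
      ring
    have := (sum_eq_zero_iff_of_nonneg fun ψ hψ => sub_nonneg.2 (hlow ψ hψ)).1 h1 χ hχ
    omega
  have hdeg : ∀ χ ∈ s, t * d χ ^ 2 ≤ ∑ ψ ∈ s, d ψ ^ 2 := by
    intro χ hχ
    have h2 := hidem χ
    rw [← add_sum_erase _ _ hχ, hdiag χ hχ] at h2
    have h4 := hdP χ
    rw [← add_sum_erase _ _ hχ, hdiag χ hχ] at h4
    have h5 : (∑ ψ ∈ s.erase χ, d ψ * P χ ψ) ^ 2 ≤
        (∑ ψ ∈ s.erase χ, d ψ ^ 2) * ∑ ψ ∈ s.erase χ, P χ ψ ^ 2 :=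
      sum_mul_sq_le_sq_mul_sq _ _ _
    rw [show ∑ ψ ∈ s.erase χ, d ψ * P χ ψ = -(d χ * (t * (t - 1))) by linarith,
      show ∑ ψ ∈ s.erase χ, P χ ψ ^ 2 = t * t * (t - 1) by linarith, neg_sq] at h5
    rw [← add_sum_erase _ _ hχ]
    have h6 : (t * t * (t - 1)) * (d χ ^ 2 * (t - 1)) ≤
        (t * t * (t - 1)) * ∑ ψ ∈ s.erase χ, d ψ ^ 2 := by linarith [h5]
    have h7 := le_of_mul_le_mul_left h6 (by nlinarith)
    linarith
  refine ⟨by omega, fun χ hχ φ hφ => ?_⟩
  have hsq : ∀ ψ ∈ s, t * d ψ ^ 2 = ∑ ξ ∈ s, d ξ ^ 2 := by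
    have h1 : ∑ ψ ∈ s, (∑ ξ ∈ s, d ξ ^ 2 - t * d ψ ^ 2) = 0 := by
      rw [sum_sub_distrib, sum_const, nsmul_eq_mul, hneq, ← mul_sum, sub_self]
    intro ψ hψ
    have := (sum_eq_zero_iff_of_nonneg fun ξ hξ => sub_nonneg.2 (hdeg ξ hξ)).1 h1 ψ hψ
    omega
  have h1 : d χ ^ 2 = d φ ^ 2 :=
    mul_left_cancel₀ (by omega : t ≠ 0) ((hsq χ hχ).trans (hsq φ hφ).symm)
  exact (pow_left_inj₀ (hpos χ hχ).le (hpos φ hφ).le two_ne_zero).1 h1

end CfsgLib.CharDeep.SmallDegrees
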