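import Cfsg.Agent.Lib.CharDeep.SmallDegrees.Final
import Cfsg.Agent.Lib.CharDeep.ItoMichler

/-!
# Degrees below `p` force a normal abelian Sylow `p`-subgroup
-/

set_option autoImplicit false

open scoped ComplexConjugate
open Finset Subgroup

namespace CfsgLib.CharDeep.SmallDegrees

open CfsgLib.Char CfsgLib.DegreeTools

section Count

variable {G : Type*} [Group G] [Finite G]

/-- Column orthogonality summed over an abelian subgroup. -/
theorem card_mul_sum_deg_le (A : Subgroup G) [Fintype A] (hA : ∀ a b : A, a * b = b * a) :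
    Nat.card A * ∑ χ : Cfsg.IrrCharacter G, Cfsg.charDegree (χ : G → ℂ) ≤
      ∑ a : A, Nat.card (centralizer ({(a : G)} : Set G)) := by
  classical
  cases nonempty_fintype G
  have key : ∀ χ : Cfsg.IrrCharacter G,
      (Nat.card A : ℝ) * Cfsg.charDegree (χ : G → ℂ) ≤ ∑ a : A, ‖(χ : G → ℂ) a‖ ^ 2 := by
    intro χ
    have hc : Cfsg.IsCharacter A fun a : A => (χ : G → ℂ) a :=
      IsCharacter.restrict (isCharacter_irr χ) A
    obtain ⟨m, hm, hexp⟩ := IsCharacter.exists_multiplicity hc
    have h1 : Cfsg.charDegree (χ : G → ℂ) = ∑ φ, m φ := by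
      have := hexp 1
      simp only [OneMemClass.coe_one, ← deg_cast,
        apply_one_eq_one_of_comm hA (Subtype.prop _), mul_one] at this
      exact_mod_cast this
    have h2 : (∑ a : A, ‖(χ : G → ℂ) a‖ ^ 2 : ℝ) = Nat.card A * ∑ φ, (m φ : ℝ) ^ 2 := by
      have h3 := classInner_eq_sum_irr (IsCharacter.isClassFunction hc) (fun a : A => (χ : G → ℂ) a)
      have h4 : ∀ φ : Cfsg.IrrCharacter A,
          Cfsg.classInner (φ : A → ℂ) (fun a : A => (χ : G → ℂ) a) = m φ := fun φ => by
        rw [IsCharacter.classInner_comm (isCharacter_irr φ) hc, hm]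
      simp only [hm, h4] at h3
      rw [Cfsg.classInner, inv_mul_eq_iff_eq_mul₀ Char.card_ne_zero] at h3
      apply Complex.ofReal_injective
      push_cast
      simp only [Complex.mul_conj, Complex.normSq_eq_norm_sq] at h3
      push_cast at h3
      rw [h3]
      simp [sq]
    rw [h1, h2]
    push_cast
    refine mul_le_mul_of_nonneg_left (sum_le_sum fun φ _ => ?_) (Nat.cast_nonneg _)
    exact_mod_cast Nat.le_self_pow two_ne_zero (m φ)
  have h := sum_le_sum fun χ (_ : χ ∈ univ) => key χ
  rw [← mul_sum, sum_comm, sum_congr rfl fun (a : A) _ => sum_norm_sq_col (a : G)] at h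
  exact_mod_cast h

/-- The basic inequality for an abelian subgroup when all degrees are below `p`. -/
theorem card_mul_le {p : ℕ} (hdeg : ∀ χ : Cfsg.IrrCharacter G, Cfsg.charDegree (χ : G → ℂ) < p)
    (A : Subgroup G) [Fintype A] [DecidableEq A] (hA : ∀ a b : A, a * b = b * a) :
    Nat.card A * Nat.card G ≤ (p - 1) * Nat.card G +
      (p - 1) * ∑ a ∈ (univ : Finset A).erase 1, Nat.card (centralizer ({(a : G)} : Set G)) := by
  classical
  have h1 : Nat.card G ≤ (p - 1) * ∑ χ : Cfsg.IrrCharacter G, Cfsg.charDegree (χ : G → ℂ) := by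
    rw [← sum_deg_sq, mul_sum]
    exact sum_le_sum fun χ _ => by
      rw [sq]
      exact Nat.mul_le_mul_right _ (by have := hdeg χ; omega)
  have h2 := card_mul_sum_deg_le A hA
  rw [← add_sum_erase _ _ (mem_univ (1 : A))] at h2
  have h3 : Nat.card (centralizer ({((1 : A) : G)} : Set G)) = Nat.card G := by
    rw [OneMemClass.coe_one, centralizer_eq_top_iff_subset.2 (by simp), card_top]
  rw [h3] at h2
  calc Nat.card A * Nat.card G
      ≤ Nat.card A * ((p - 1) * ∑ χ : Cfsg.IrrCharacter G, Cfsg.charDegree (χ : G → ℂ)) :=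
        Nat.mul_le_mul_left _ h1
    _ = (p - 1) * (Nat.card A * ∑ χ : Cfsg.IrrCharacter G, Cfsg.charDegree (χ : G → ℂ)) := by ring
    _ ≤ _ := by
        rw [← mul_add]
        exact Nat.mul_le_mul_left _ h2

end Count

section Inherit

variable {G : Type*} [Group G] [Finite G] {p : ℕ}

theorem deg_lt_subgroup (hdeg : ∀ χ : Cfsg.IrrCharacter G, Cfsg.charDegree (χ : G → ℂ) < p)
    (H : Subgroup G) (θ : Cfsg.IrrCharacter H) : Cfsg.charDegree (θ : H → ℂ) < p := by
  classical
  cases nonempty_fintype G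
  obtain ⟨χ, hχ⟩ := ItoMichler.exists_over H θ
  obtain ⟨a, b, ha, hb, hab, -⟩ := IsCharacter.constituent_degree_le
    (IsCharacter.restrict (isCharacter_irr χ) H) θ.2 hχ
  have h1 : Cfsg.charDegree (θ : H → ℂ) = a :=
    Nat.cast_injective (R := ℂ) (by rw [deg_cast, ha])
  have h2 : Cfsg.charDegree (χ : G → ℂ) = b :=
    Nat.cast_injective (R := ℂ) (by
      rw [deg_cast, ← hb]
      simp)
  have := hdeg χ
  omega

theorem deg_lt_quotient (hdeg : ∀ χ : Cfsg.IrrCharacter G, Cfsg.charDegree (χ : G → ℂ) < p)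
    (N : Subgroup G) [N.Normal] (ψ : Cfsg.IrrCharacter (G ⧸ N)) :
    Cfsg.charDegree (ψ : G ⧸ N → ℂ) < p := by
  have h := hdeg ⟨(ψ : G ⧸ N → ℂ) ∘ QuotientGroup.mk' N,
    IsIrrCharacter.comp_surjective ψ.2 _ (QuotientGroup.mk'_surjective N)⟩
  simpa [Cfsg.charDegree] using h

end Inherit

section Simple

theorem arith_big {p q n N S : ℕ} (hp : 2 ≤ p) (hq : p * p ≤ q) (hn : q + 1 ≤ n) (hN : 0 < N)
    (h1 : q * (N * n) ≤ (p - 1) * (N * n) + (p - 1) * S) (h2 : S ≤ (q - 1) * N) : False := by
  obtain ⟨w, rfl⟩ : ∃ w, p = w + 2 := ⟨p - 2, by omega⟩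
  obtain ⟨v, rfl⟩ : ∃ v, q = v + 1 := ⟨q - 1, by
    have : 0 < q := lt_of_lt_of_le (by positivity) hq
    omega⟩
  rw [show w + 2 - 1 = w + 1 by omega] at h1
  rw [Nat.add_sub_cancel] at h2
  have h3 : (v + 1) * n ≤ (w + 1) * n + (w + 1) * v := by
    refine Nat.le_of_mul_le_mul_left (?_ : N * _ ≤ N * _) hN
    nlinarith [Nat.mul_le_mul_left (w + 1) h2]
  have hv : 2 * w + 3 ≤ v := by nlinarith
  nlinarith [Nat.mul_le_mul_right n hv, Nat.mul_le_mul_left (w + 3) hn]

theorem arith_small {p r n N C S c : ℕ} (hp : 2 ≤ p) (hr : 2 ≤ r) (hn : p + 1 ≤ n) (hN : 0 < N)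
    (hC : 2 * C ≤ N) (h1 : p * r * (N * n) ≤ (p - 1) * (N * n) + (p - 1) * S) (hc1 : 1 ≤ c)
    (hc : c ≤ r) (h2 : S ≤ (p * r - c) * C + (c - 1) * N) : False := by
  obtain ⟨s, rfl⟩ : ∃ s, c = s + 1 := ⟨c - 1, by omega⟩
  have hle : r ≤ p * r := Nat.le_mul_of_pos_left r (by omega)
  obtain ⟨t, ht⟩ : ∃ t, p * r = s + 1 + t := ⟨p * r - (s + 1), by omega⟩
  rw [ht, Nat.add_sub_cancel_left, Nat.add_sub_cancel] at h2
  obtain ⟨w, rfl⟩ : ∃ w, p = w + 2 := ⟨p - 2, by omega⟩
  rw [show w + 2 - 1 = w + 1 by omega] at h1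
  have h2' : 2 * S ≤ (t + 2 * s) * N := by nlinarith [Nat.mul_le_mul_left t hC]
  have h3 : 2 * ((w + 2) * r) * n ≤ 2 * (w + 1) * n + (w + 1) * (t + 2 * s) := by
    refine Nat.le_of_mul_le_mul_left (?_ : N * _ ≤ N * _) hN
    nlinarith [Nat.mul_le_mul_left (w + 1) h2']
  have h4 : t + 2 * s + 2 ≤ (w + 2) * r + r := by omega
  obtain ⟨z, rfl⟩ := Nat.le.dest hn
  obtain ⟨y, rfl⟩ : ∃ y, r = y + 2 := ⟨r - 2, by omega⟩
  nlinarith [Nat.mul_le_mul_left (w + 1) h4, Nat.zero_le (z * w * y), Nat.zero_le (z * w),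
    Nat.zero_le (z * y), Nat.zero_le (w * w * y), Nat.zero_le (w * y), Nat.zero_le (w * w)]

variable {p : ℕ} [hp : Fact p.Prime]

/-- The simple case, given the conclusion for all proper subgroups. -/
theorem false_of_simple {G : Type*} [Group G] [Finite G] [IsSimpleGroup G]
    (hdeg : ∀ χ : Cfsg.IrrCharacter G, Cfsg.charDegree (χ : G → ℂ) < p) (P : Sylow p G)
    (hP : ¬ (P : Subgroup G).Normal)
    (hsub : ∀ H : Subgroup G, H ≠ ⊤ → ∀ Q : Sylow p H, (Q : Subgroup H).Normal) : False := by
  classical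
  cases nonempty_fintype G
  have hnd : ∀ χ : Cfsg.IrrCharacter G, ¬ p ∣ Cfsg.charDegree (χ : G → ℂ) := fun χ h =>
    absurd (Nat.le_of_dvd (deg_pos χ) h) (not_le.2 (hdeg χ))
  have hbot : (P : Subgroup G) ≠ ⊥ := fun h => hP (h ▸ inferInstance)
  have htop : (P : Subgroup G) ≠ ⊤ := fun h => hP (h ▸ inferInstance)
  have hPab : ∀ a b : (P : Subgroup G), a * b = b * a := by
    have hN : (P.subtype (le_refl (P : Subgroup G)) : Subgroup (P : Subgroup G)).Normal :=
      hsub _ htop _
    have h1 := ItoMichler.comm_of_normal (P.subtype (le_refl (P : Subgroup G))) fun χ hd =>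
      absurd (Nat.le_of_dvd (deg_pos χ) hd) (not_le.2 (deg_lt_subgroup hdeg _ χ))
    intro a b
    have := congrArg Subtype.val (h1 ⟨a, by simp⟩ ⟨b, by simp⟩)
    exact this
  have hle : ∀ H : Subgroup G, H ≠ ⊤ → (P : Subgroup G) ≤ H →
      H ≤ normalizer ((P : Subgroup G) : Set G) := by
    intro H hH hPH
    have h1 := hsub H hH (P.subtype hPH)
    rw [Sylow.coe_subtype] at h1
    exact (normal_subgroupOf_iff_le_normalizer hPH).1 h1
  set N := normalizer ((P : Subgroup G) : Set G) with hN
  have hNtop : N ≠ ⊤ := fun h => hP (normalizer_eq_top_iff.1 h)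
  have hcenter : center G = ⊥ := by
    rcases IsSimpleGroup.eq_bot_or_eq_top_of_normal (center G) inferInstance with h | h
    · exact h
    · refine absurd ⟨fun n hn g => ?_⟩ hP
      have : n ∈ center G := h ▸ mem_top n
      rwa [mem_center_iff.1 this g, mul_inv_cancel_right]
  have hcz : ∀ y : G, y ≠ 1 → centralizer ({y} : Set G) ≠ ⊤ := by
    intro y hy h
    rw [centralizer_eq_top_iff_subset, hcenter] at h
    exact hy (by simpa using h (Set.mem_singleton y))
  have hCN : ∀ y ∈ (P : Subgroup G), y ≠ 1 → centralizer ({y} : Set G) ≤ N := fun y hy hy1 =>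
    hle _ (hcz y hy1) fun b hb => mem_centralizer_singleton_iff.2
      (congrArg Subtype.val (hPab ⟨b, hb⟩ ⟨y, hy⟩))
  -- the Sylow subgroups meet trivially
  have hn : Nat.card (P : Subgroup G) + 1 ≤ N.index := by
    refine le_of_le_of_eq ?_ (Sylow.card_eq_index_normalizer P)
    obtain ⟨g, hg⟩ : ∃ g : G, g ∉ N := by
      by_contra h
      push Not at h
      exact hNtop ((eq_top_iff' N).2 h)
    set Q : Sylow p G := g • P
    have hQ : Q ≠ P := fun h => hg (Sylow.smul_eq_iff_mem_normalizer.1 h)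
    let F : Option (P : Subgroup G) → Sylow p G := fun o => o.elim P fun y => (y : G) • Q
    have hmemP : ∀ y : (P : Subgroup G), (y : G) • P = P := fun y =>
      Sylow.smul_eq_iff_mem_normalizer.2 (le_normalizer y.2)
    have hne : ∀ y : (P : Subgroup G), (y : G) • Q ≠ P := fun y h =>
      hQ (smul_left_cancel (y : G) (h.trans (hmemP y).symm))
    have hstab : ∀ y : (P : Subgroup G), (y : G) • Q = Q → y = 1 := by
      intro y hy
      by_contra h1
      have hy1 : (y : G) ≠ 1 := fun h => h1 (Subtype.ext h)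
      -- `g⁻¹ y g` normalizes `P`, hence lies in it
      have h2 : g⁻¹ * (y : G) * g ∈ N := Sylow.smul_eq_iff_mem_normalizer.1 (by
        rw [mul_smul, mul_smul, show g • P = Q from rfl, hy, ← mul_smul, inv_mul_cancel, one_smul])
      have h3 : g⁻¹ * (y : G) * g ∈ (P : Subgroup G) := by
        have hz : IsPGroup p (zpowers (g⁻¹ * (y : G) * g)) := by
          obtain ⟨k, hk⟩ := IsPGroup.iff_orderOf.1 P.2 y
          refine IsPGroup.of_card (n := k) ?_
          rw [Nat.card_zpowers, ← hk, Subgroup.orderOf_coe y |>.symm]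
          have := orderOf_injective (MulAut.conj g⁻¹).toMonoidHom (MulAut.conj g⁻¹).injective (y : G)
          simpa using this
        have h4 := P.3 (IsPGroup.to_sup_of_normal_left' P.2 hz (zpowers_le.2 h2)) le_sup_left
        exact h4.le (le_sup_right (a := (P : Subgroup G)) (mem_zpowers _))
      -- so `y` is centralized by `P` and by `g P g⁻¹`
      have h5 : ∀ b ∈ (P : Subgroup G), g * b * g⁻¹ ∈ centralizer ({(y : G)} : Set G) := by
        intro b hb
        rw [mem_centralizer_singleton_iff]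
        have h6 : b * (g⁻¹ * (y : G) * g) = g⁻¹ * (y : G) * g * b :=
          congrArg Subtype.val (hPab ⟨b, hb⟩ ⟨_, h3⟩)
        calc g * b * g⁻¹ * (y : G) = g * (b * (g⁻¹ * (y : G) * g)) * g⁻¹ := by group
          _ = g * (g⁻¹ * (y : G) * g * b) * g⁻¹ := by rw [h6]
          _ = (y : G) * (g * b * g⁻¹) := by group
      refine hQ (Sylow.ext ?_)
      have hQN : (Q : Subgroup G) ≤ N := by
        rintro _ ⟨b, hb, rfl⟩
        exact hCN _ y.2 hy1 (by simpa using h5 b hb)
      exact (P.3 (IsPGroup.to_sup_of_normal_left' P.2 Q.2 hQN) le_sup_left).le.trans' le_sup_right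
        |> fun h => Subgroup.eq_of_le_of_card_ge h (by
          rw [Sylow.card_eq_multiplicity, Sylow.card_eq_multiplicity])
    have hF : Function.Injective F := by
      rintro (_ | a) (_ | b) h
      · rfl
      · exact absurd h.symm (hne b)
      · exact absurd h (hne a)
      · simp only [F, Option.elim] at h
        have := hstab (b⁻¹ * a) (by
          rw [Subgroup.coe_mul, Subgroup.coe_inv, mul_smul, h, inv_smul_smul])
        rw [inv_mul_eq_one] at this
        rw [this]
    have := Nat.card_le_card_of_injective F hF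
    rwa [Finite.card_option] at this
  have hGN : Nat.card G = Nat.card N * N.index := (card_mul_index N).symm
  have hNpos : 0 < Nat.card N := Nat.card_pos
  obtain ⟨a, ha⟩ := P.2.exists_card_eq
  rcases a with _ | _ | a
  · exact hbot (card_eq_one.1 (by rw [ha, pow_zero]))
  swap
  · -- order at least `p²`
    have hbound : ∀ y ∈ (univ : Finset (P : Subgroup G)).erase 1,
        Nat.card (centralizer ({(y : G)} : Set G)) ≤ Nat.card N := fun y hy =>
      card_le_of_le (hCN y y.2 fun h => ne_of_mem_erase hy (Subtype.ext h))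
    have h1 := card_mul_le hdeg (P : Subgroup G) hPab
    have h2 := sum_le_card_nsmul _ _ _ hbound
    rw [card_erase_of_mem (mem_univ _), card_univ, ← Nat.card_eq_fintype_card, smul_eq_mul] at h2
    have hq : p * p ≤ Nat.card (P : Subgroup G) := by
      rw [ha, ← sq]
      exact Nat.pow_le_pow_right hp.out.pos (by omega)
    rw [hGN] at h1
    exact arith_big hp.out.two_le hq hn hNpos h1 h2
  -- order `p`
  rw [zero_add, pow_one] at ha
  obtain ⟨⟨x, hxP⟩, hxo⟩ := exists_prime_orderOf_dvd_card' p (G := (P : Subgroup G)) (by rw [ha])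
  rw [Subgroup.orderOf_mk] at hxo
  have hPx : (P : Subgroup G) = zpowers x :=
    (Subgroup.eq_of_le_of_card_ge (zpowers_le.2 hxP) (by rw [ha, Nat.card_zpowers, hxo])).symm
  have hx1 : x ≠ 1 := fun h => by
    rw [h, orderOf_one] at hxo
    exact hp.out.one_lt.ne hxo
  set C := centralizer ({x} : Set G) with hC
  have hPC : (P : Subgroup G) ≤ C := by
    rw [hPx, zpowers_le]
    exact mem_centralizer_singleton_iff.2 rfl
  rcases eq_or_ne (Nat.card C) p with hv | hv
  · refine false_of_centralizer_card x hxo ?_ (fun χ hχ hker => ?_) hdeg hv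
    · rcases IsSimpleGroup.eq_bot_or_eq_top_of_normal (commutator G) inferInstance with h | h
      · refine absurd ⟨fun n hn g => ?_⟩ hP
        rw [_root_.commutator_def, commutator_eq_bot_iff_le_centralizer] at h
        rwa [Subgroup.mem_centralizer_iff.1 (h (mem_top n)) g trivial, mul_inv_cancel_right]
      · exact h
    · rcases IsSimpleGroup.eq_bot_or_eq_top_of_normal _
        (charKer_normal (isCharacter_irr χ)) with h | h
      · have : x ∈ charKer (isCharacter_irr χ) := hker
        rw [h, Subgroup.mem_bot] at this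
        exact hx1 this
      · have hconst : ∀ g, (χ : G → ℂ) g = (χ : G → ℂ) 1 := fun g =>
          (mem_charKer (isCharacter_irr χ)).1 (h ▸ mem_top g)
        have h0 := DegreeTools.sum_eq_zero χ hχ
        rw [Finset.sum_congr rfl fun g _ => hconst g, Finset.sum_const, nsmul_eq_mul,
          mul_eq_zero] at h0
        exact h0.elim (by simp) (IsIrrCharacter.apply_one_ne_zero χ.2)
  -- a second prime in the centralizer
  have hpC : p ∣ Nat.card C := ha ▸ card_dvd_of_le hPC
  obtain ⟨v, hCv⟩ := hpC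
  have hv1 : v ≠ 1 := fun h => hv (by rw [hCv, h, mul_one])
  obtain ⟨r, hr, hrv⟩ := Nat.exists_prime_and_dvd hv1
  have hrp : r ≠ p := by
    intro hrp
    obtain ⟨k, hk⟩ := (card_subgroup_dvd_card C)
    have h1 : ¬ p ∣ (P : Subgroup G).index := P.not_dvd_index
    have h2 := (card_mul_index (P : Subgroup G)).symm
    rw [ha, hk, hCv] at h2
    refine h1 ((hrp ▸ hrv).trans ⟨k, ?_⟩)
    rw [mul_assoc] at h2
    exact (Nat.eq_of_mul_eq_mul_left hp.out.pos h2).symm
  have : Fact r.Prime := ⟨hr⟩
  obtain ⟨⟨u, huC⟩, huo⟩ := exists_prime_orderOf_dvd_card' r (G := C) (hrv.trans ⟨p, by rw [hCv]; ring⟩)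
  rw [Subgroup.orderOf_mk] at huo
  have hxu : Commute x u := (mem_centralizer_singleton_iff.1 huC).symm
  have hyo : orderOf (x * u) = p * r := by
    rw [hxu.orderOf_mul_eq_mul_orderOf_of_coprime (by
      rw [hxo, huo]; exact (Nat.coprime_primes hp.out hr).2 (Ne.symm hrp)), hxo, huo]
  set A := zpowers (x * u) with hA
  have hAcard : Nat.card A = p * r := by rw [Nat.card_zpowers, hyo]
  -- Burnside: the centralizer of `P` is proper in its normalizer
  have hCN2 : 2 * Nat.card C ≤ Nat.card N := by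
    have hCN' : C ≤ N := hCN x hxP hx1
    obtain ⟨k, hk⟩ := card_dvd_of_le hCN'
    have hk1 : k ≠ 1 := by
      rintro rfl
      have hNC : N ≤ C := (Subgroup.eq_of_le_of_card_ge hCN' (by rw [hk, mul_one])).ge
      have hburn : N ≤ centralizer ((P : Subgroup G) : Set G) := by
        intro c hc
        refine mem_centralizer_iff.2 fun b hb => ?_
        obtain ⟨i, rfl⟩ : b ∈ zpowers x := hPx ▸ hb
        exact ((Commute.symm (mem_centralizer_singleton_iff.1 (hNC hc))).zpow_left i).eq
      set f := MonoidHom.transferSylow P hburn with hf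
      have hco := MonoidHom.ker_transferSylow_isComplement' P hburn
      rcases IsSimpleGroup.eq_bot_or_eq_top_of_normal f.ker inferInstance with h | h
      · rw [← hf, h, isComplement'_bot_left] at hco
        exact htop hco
      · rw [← hf, h, isComplement'_top_left] at hco
        exact hbot hco
    have hk0 : k ≠ 0 := fun h => by rw [h, mul_zero] at hk; omega
    rw [hk]
    exact (Nat.mul_comm 2 _).le.trans (Nat.mul_le_mul_left _ (by omega))
  have hbig : ∀ a ∈ A, a ^ r ≠ 1 → centralizer ({a} : Set G) ≤ C := by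
    intro a ha har g hg
    rw [mem_centralizer_singleton_iff] at hg
    obtain ⟨i, hi⟩ := (isOfFinOrder_of_finite (x * u)).mem_zpowers_iff_mem_range_orderOf.1 ha |>
      Finset.mem_image.1
    have h1 : a ^ r = x ^ (i * r) := by
      rw [← hi.2, ← pow_mul, hxu.mul_pow, mul_comm i r, pow_mul u, ← huo, pow_orderOf_eq_one,
        one_pow, mul_one]
    have h2 : Commute g (x ^ (i * r)) := h1 ▸ Commute.pow_right hg r
    have h3 : (i * r : ℕ).Coprime (orderOf x) := by
      rw [hxo, Nat.coprime_comm, hp.out.coprime_iff_not_dvd]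
      intro hd
      refine har (h1.trans (orderOf_dvd_iff_pow_eq_one.1 (hxo ▸ hd)))
    obtain ⟨j, hj⟩ := exists_pow_eq_self_of_coprime h3
    rw [hC, mem_centralizer_singleton_iff, ← hj]
    exact (h2.pow_right j).eq
  have hsmall : ∀ a ∈ A, a ≠ 1 → centralizer ({a} : Set G) ≤ N := fun a ha ha1 =>
    hle _ (hcz a ha1) (by
      rw [hPx, zpowers_le, mem_centralizer_singleton_iff]
      obtain ⟨i, rfl⟩ := ha
      exact ((Commute.refl x).mul_right hxu).zpow_right i |>.eq)
  set S := (univ : Finset A).filter fun a : A => (a : G) ^ r = 1 with hS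
  have hScard : S.card ≤ r := by
    have : IsCyclic A := isCyclic_zpowers _
    refine le_trans (le_of_eq ?_) (IsCyclic.card_pow_eq_one_le (α := A) hr.pos)
    rw [hS]
    congr 1
    ext a
    simp [Subtype.ext_iff]
  have hS1 : (1 : A) ∈ S := by simp [hS]
  have hsum : ∑ a ∈ (univ : Finset A).erase 1, Nat.card (centralizer ({(a : G)} : Set G)) ≤
      (p * r - S.card) * Nat.card C + (S.card - 1) * Nat.card N := by
    have hsub' : (univ : Finset A).erase 1 = (univ \ S) ∪ S.erase 1 := by
      ext a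
      simp only [mem_erase, mem_union, mem_sdiff, mem_univ, true_and, and_true]
      constructor
      · intro h
        by_cases ha : a ∈ S
        · exact Or.inr ⟨h, ha⟩
        · exact Or.inl ha
      · rintro (h | h)
        · exact fun h' => h (h' ▸ hS1)
        · exact h.1
    rw [hsub', sum_union (disjoint_sdiff_self_left.mono_right (erase_subset _ _))]
    refine add_le_add ((sum_le_card_nsmul _ _ (Nat.card C) fun (a : A) ha => card_le_of_le (hbig a a.2 ?_)).trans
      (le_of_eq ?_)) ((sum_le_card_nsmul _ _ (Nat.card N) fun (a : A) ha => card_le_of_le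
        (hsmall a a.2 ?_)).trans (le_of_eq ?_))
    · simp only [hS, mem_sdiff, mem_filter, mem_univ, true_and] at ha
      exact ha
    · rw [card_sdiff_of_subset (subset_univ _), card_univ, ← Nat.card_eq_fintype_card, hAcard,
        smul_eq_mul]
    · exact fun h => ne_of_mem_erase ha (Subtype.ext h)
    · rw [card_erase_of_mem hS1, smul_eq_mul]
  have h1 := card_mul_le hdeg A (fun a b => by
    obtain ⟨i, hi⟩ := a.2
    obtain ⟨j, hj⟩ := b.2
    refine Subtype.ext ?_
    simp only [Subgroup.coe_mul, ← hi, ← hj]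
    exact zpow_mul_comm _ i j)
  rw [hAcard, hGN] at h1
  rw [ha] at hn
  exact arith_small hp.out.two_le hr.two_le hn hNpos hCN2 h1 (card_pos.2 ⟨1, hS1⟩) hScard hsum

end Simple

/-- **Main theorem.** -/
theorem normal_of_deg_lt {p : ℕ} [hp : Fact p.Prime] : ∀ (n : ℕ) {G : Type*} [Group G] [Finite G],
    Nat.card G = n → (∀ χ : Cfsg.IrrCharacter G, Cfsg.charDegree (χ : G → ℂ) < p) →
      ∀ P : Sylow p G, (P : Subgroup G).Normal := by
  intro n
  induction n using Nat.strong_induction_on with
  | _ n ih =>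
  intro G _ _ hn hdeg P
  have hsub : ∀ H : Subgroup G, H ≠ ⊤ → ∀ Q : Sylow p H, (Q : Subgroup H).Normal := fun H hH Q =>
    ih _ (hn ▸ lt_of_le_of_ne (card_le_card_group H) fun h => hH (eq_top_of_card_eq H h)) rfl
      (deg_lt_subgroup hdeg H) Q
  by_contra hP
  have hnt : Nontrivial G := by
    by_contra h
    rw [not_nontrivial_iff_subsingleton] at h
    exact hP ⟨fun x hx g => by rwa [Subsingleton.elim (g * x * g⁻¹) x]⟩
  by_cases hs : IsSimpleGroup G
  · exact false_of_simple hdeg P hP hsub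
  obtain ⟨N, hNn, hN0, hN1⟩ : ∃ N : Subgroup G, N.Normal ∧ N ≠ ⊥ ∧ N ≠ ⊤ := by
    by_contra h
    push Not at h
    exact hs { eq_bot_or_eq_top_of_normal := fun H hH => or_iff_not_imp_left.2 (h H hH) }
  have hquot : ∀ M : Subgroup G, M.Normal → M ≠ ⊥ → ((P : Subgroup G) ⊔ M).Normal := by
    intro M hM hM0
    have hlt : Nat.card (G ⧸ M) < n := by
      rw [← hn, ← index_eq_card, ← index_mul_card M]
      exact lt_mul_of_one_lt_right (Nat.pos_of_ne_zero index_ne_zero_of_finite)
        (M.one_lt_card_iff_ne_bot.2 hM0)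
    have h1 := (ih _ hlt (G := G ⧸ M) rfl (deg_lt_quotient hdeg M)
      (P.mapSurjective (QuotientGroup.mk'_surjective M))).comap (QuotientGroup.mk' M)
    rwa [Sylow.coe_mapSurjective, comap_map_eq, QuotientGroup.ker_mk'] at h1
  have hM := hquot N hNn hN0
  have hMtop : (P : Subgroup G) ⊔ N = ⊤ := by
    by_contra h
    set M := (P : Subgroup G) ⊔ N
    have hQ := hsub M h (P.subtype le_sup_left)
    have hc := Sylow.characteristic_of_normal _ hQ
    have := ConjAct.normal_of_characteristic_of_normal (K := (P.subtype (le_sup_left : _ ≤ M) : Subgroup M))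
    rw [Sylow.coe_subtype, subgroupOf_map_subtype, inf_eq_left.2 le_sup_left] at this
    exact hP this
  by_cases hpN : p ∣ Nat.card N
  · let Q : Sylow p N := default
    have hc := Sylow.characteristic_of_normal Q (hsub N hN1 Q)
    set Q' := (Q : Subgroup N).map N.subtype
    have hQ'n : Q'.Normal := ConjAct.normal_of_characteristic_of_normal
    have hQ'0 : Q' ≠ ⊥ := by
      rw [Ne, map_eq_bot_iff_of_injective _ N.subtype_injective]
      exact Q.ne_bot_of_dvd_card hpN
    have h1 := hquot Q' hQ'n hQ'0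
    rw [P.3 (IsPGroup.to_sup_of_normal_right P.2 (Q.2.map N.subtype)) le_sup_left] at h1
    exact hP h1
  · have hco : (Nat.card N).Coprime p := (hp.out.coprime_iff_not_dvd.2 hpN).symm
    refine hP (normalizer_eq_top_iff.1 (eq_top_iff.2 (hMtop ▸ sup_le le_normalizer ?_)))
    intro m hm
    have hc : ∀ b ∈ (P : Subgroup G), b * m = m * b := fun b hb =>
      ItoMichler.centralizes P N hco (fun χ hd =>
        absurd (Nat.le_of_dvd (deg_pos χ) hd) (not_le.2 (hdeg χ))) hb hm
    exact centralizer_le_normalizer _ (mem_centralizer_iff.2 hc)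

end CfsgLib.CharDeep.SmallDegrees
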